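import Cfsg.Agent.Lib.KnownSimple.SemisimpleClasses.Matrices

/-!
# Semisimple classes of general and special linear groups
-/

set_option autoImplicit false

namespace CfsgLib.SSClasses

open Polynomial

universe u

variable {F : Type u} [Field F] {n : ℕ} (p : ℕ) [CharP F p] [Fact p.Prime]

theorem natCast_ne_zero_of_coprime {m : ℕ} (h : m.Coprime p) : (m : F) ≠ 0 := fun e =>
  Nat.Prime.coprime_iff_not_dvd Fact.out |>.1 h.symm ((CharP.cast_eq_zero_iff F p m).1 e)

theorem pow_sub_one_coprime [Fintype F] {N : ℕ} (hN : 0 < N) : (Fintype.card F ^ N - 1).Coprime p := by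
  refine Nat.Coprime.symm ((Nat.Prime.coprime_iff_not_dvd Fact.out).2 fun h => ?_)
  have h1 : p ∣ Fintype.card F ^ N := dvd_pow ((CharP.cast_eq_zero_iff F p _).1 (FiniteField.cast_card_eq_zero F)) hN.ne'
  have h2 : 1 ≤ Fintype.card F ^ N := Nat.one_le_pow _ _ Fintype.card_pos
  exact Nat.Prime.not_dvd_one (Fact.out : p.Prime) (by
    have := Nat.dvd_sub h1 h
    rwa [Nat.sub_sub_self h2] at this)

theorem gl_isConj (g h : GL (Fin n) F) (hg : (orderOf g).Coprime p) (hh : (orderOf h).Coprime p)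
    (hc : (g : Matrix (Fin n) (Fin n) F).charpoly = (h : Matrix (Fin n) (Fin n) F).charpoly) :
    IsConj g h := by
  obtain ⟨P, hP⟩ := exists_conj_of_charpoly (m := orderOf g * orderOf h)
    (natCast_ne_zero_of_coprime p (hg.mul_left hh))
    (by rw [pow_mul, ← Units.val_pow_eq_pow_val, pow_orderOf_eq_one, Units.val_one, one_pow])
    (by rw [mul_comm, pow_mul, ← Units.val_pow_eq_pow_val, pow_orderOf_eq_one, Units.val_one, one_pow]) hc
  exact isConj_iff.2 ⟨P, mul_inv_eq_iff_eq_mul.2 (Units.ext hP)⟩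

theorem sl_isConj [Finite F] (g h : Matrix.SpecialLinearGroup (Fin n) F) (hg : (orderOf g).Coprime p)
    (hh : (orderOf h).Coprime p)
    (hc : (g : Matrix (Fin n) (Fin n) F).charpoly = (h : Matrix (Fin n) (Fin n) F).charpoly) :
    IsConj g h := by
  rcases Nat.eq_zero_or_pos n with h0 | hn
  · subst h0
    exact Subsingleton.elim g h ▸ IsConj.refl g
  haveI : Nonempty (Fin n) := ⟨⟨0, hn⟩⟩
  have hg1 : (g : Matrix (Fin n) (Fin n) F) ^ orderOf g = 1 := by
    rw [← Matrix.SpecialLinearGroup.coe_pow, pow_orderOf_eq_one, Matrix.SpecialLinearGroup.coe_one]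
  have hh1 : (h : Matrix (Fin n) (Fin n) F) ^ orderOf h = 1 := by
    rw [← Matrix.SpecialLinearGroup.coe_pow, pow_orderOf_eq_one, Matrix.SpecialLinearGroup.coe_one]
  have hm := natCast_ne_zero_of_coprime (F := F) p (hg.mul_left hh)
  obtain ⟨P, hP⟩ := exists_conj_of_charpoly hm (by rw [pow_mul, hg1, one_pow])
    (by rw [mul_comm, pow_mul, hh1, one_pow]) hc
  obtain ⟨Q, hQ, hQd⟩ := exists_commute_det (natCast_ne_zero_of_coprime (F := F) p hg) hg1
    (Matrix.GeneralLinearGroup.det P)⁻¹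
  have hdet : ((P : Matrix (Fin n) (Fin n) F) * (Q : Matrix (Fin n) (Fin n) F)).det = 1 := by
    rw [Matrix.det_mul, hQd, ← Matrix.GeneralLinearGroup.val_det_apply, Units.mul_inv]
  refine isConj_iff.2 ⟨⟨_, hdet⟩, mul_inv_eq_iff_eq_mul.2 (Subtype.ext ?_)⟩
  show (P : Matrix (Fin n) (Fin n) F) * Q * g = h * ((P : Matrix (Fin n) (Fin n) F) * Q)
  rw [mul_assoc, hQ, ← mul_assoc, hP, mul_assoc]

/-- Monic polynomials of degree `n` with prescribed constant term condition. -/
def PolySet (F : Type u) [Field F] (n : ℕ) (S : F → Prop) : Type u :=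
  {P : F[X] // (P.Monic ∧ P.natDegree = n) ∧ S (P.coeff 0)}

theorem card_polySet [Fintype F] (S : F → Prop) {k : ℕ} :
    Nat.card (PolySet F (k + 1) S) = Nat.card {a : F // S a} * Fintype.card F ^ k := by
  classical
  let e : {P : F[X] // P.Monic ∧ P.natDegree = k + 1} ≃ (Fin (k + 1) → F) :=
    (monicEquivDegreeLT (k + 1)).trans (degreeLTEquiv F (k + 1)).toEquiv
  have he : ∀ P, e P 0 = P.1.coeff 0 := fun P => by
    show (P.1.eraseLead).coeff 0 = _
    rw [eraseLead_coeff, if_neg (by rw [P.2.2]; omega)]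
  let e1 : PolySet F (k + 1) S ≃ {a : Fin (k + 1) → F // S (a 0)} :=
    (Equiv.subtypeSubtypeEquivSubtypeInter (fun P : F[X] => P.Monic ∧ P.natDegree = k + 1)
      (fun P : F[X] => S (P.coeff 0))).symm.trans
      (e.subtypeEquiv fun P => by rw [he])
  let e2 : {a : Fin (k + 1) → F // S (a 0)} ≃ {a : F // S a} × (Fin k → F) :=
    { toFun := fun a => (⟨a.1 0, a.2⟩, Fin.tail a.1)
      invFun := fun x => ⟨Fin.cons x.1.1 x.2, by simpa using x.1.2⟩
      left_inv := fun a => Subtype.ext (Fin.cons_self_tail a.1)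
      right_inv := fun x => by simp }
  rw [Nat.card_congr (e1.trans e2), Nat.card_prod, Nat.card_fun, Nat.card_fin]
  simp only [Nat.card_eq_fintype_card]

theorem coeff_zero_ne_zero (g : GL (Fin n) F) : (g : Matrix (Fin n) (Fin n) F).charpoly.coeff 0 ≠ 0 := by
  intro e
  have := Matrix.GeneralLinearGroup.val_det_apply g
  rw [Matrix.det_eq_sign_charpoly_coeff, e, mul_zero] at this
  exact Units.ne_zero _ this

theorem coeff_zero_sl (g : Matrix.SpecialLinearGroup (Fin n) F) :
    (g : Matrix (Fin n) (Fin n) F).charpoly.coeff 0 = (-1) ^ n := by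
  have h := Matrix.det_eq_sign_charpoly_coeff (g : Matrix (Fin n) (Fin n) F)
  rw [g.det_coe, Fintype.card_fin] at h
  calc _ = ((-1 : F) ^ n * (-1) ^ n) * (g : Matrix (Fin n) (Fin n) F).charpoly.coeff 0 := by
        rw [← mul_pow]; simp
    _ = _ := by rw [mul_assoc, ← h, mul_one]

theorem gl_card_classes [Fintype F] {k : ℕ} :
    Nat.card {c : ConjClasses (GL (Fin (k + 1)) F) //
      ∃ g : GL (Fin (k + 1)) F, ConjClasses.mk g = c ∧ (orderOf g).Coprime p} =
      (Fintype.card F - 1) * Fintype.card F ^ k := by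
  classical
  have hS : Nat.card {a : F // a ≠ 0} = Fintype.card F - 1 := by
    rw [Nat.card_eq_fintype_card, Fintype.card_subtype_compl, Fintype.card_subtype_eq]
  rw [← hS, ← card_polySet]
  refine Nat.card_congr (Equiv.ofBijective
    (fun c => ⟨(c.2.choose : Matrix (Fin (k + 1)) (Fin (k + 1)) F).charpoly,
      ⟨Matrix.charpoly_monic _, by rw [Matrix.charpoly_natDegree_eq_dim, Fintype.card_fin]⟩,
      coeff_zero_ne_zero _⟩) ⟨fun c d hcd => Subtype.ext ?_, ?_⟩)
  · have h := congrArg Subtype.val hcd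
    rw [← c.2.choose_spec.1, ← d.2.choose_spec.1, ConjClasses.mk_eq_mk_iff_isConj]
    exact gl_isConj p _ _ c.2.choose_spec.2 d.2.choose_spec.2 h
  · rintro ⟨P, ⟨hP, hd⟩, hP0⟩
    obtain ⟨A, hA, hAm⟩ := exists_matrix_charpoly (k + 1) (k + 1) P hP hP0 hd le_rfl
    have hunit : IsUnit A := IsUnit.of_pow_eq_one hAm (by
      have h2 := Nat.one_lt_pow (Nat.factorial_ne_zero (k + 1)) (Fintype.one_lt_card (α := F))
      omega)
    obtain ⟨g, rfl⟩ := hunit
    have hg : (orderOf g).Coprime p :=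
      (pow_sub_one_coprime (F := F) p (Nat.factorial_pos (k + 1))).coprime_dvd_left
        (orderOf_dvd_of_pow_eq_one (Units.ext (by rw [Units.val_pow_eq_pow_val, hAm, Units.val_one])))
    refine ⟨⟨ConjClasses.mk g, g, rfl, hg⟩, Subtype.ext ?_⟩
    have hex : ∃ g' : GL (Fin (k + 1)) F, ConjClasses.mk g' = ConjClasses.mk g ∧ (orderOf g').Coprime p :=
      ⟨g, rfl, hg⟩
    obtain ⟨u, hu⟩ := isConj_iff.1 (ConjClasses.mk_eq_mk_iff_isConj.1 hex.choose_spec.1)
    show (hex.choose : Matrix (Fin (k + 1)) (Fin (k + 1)) F).charpoly = P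
    have h2 := congrArg (fun x : GL (Fin (k + 1)) F => (x : Matrix (Fin (k + 1)) (Fin (k + 1)) F).charpoly) hu
    simp only [Units.val_mul, Matrix.coe_units_inv] at h2
    rw [Matrix.charpoly_units_conj] at h2
    exact h2.trans hA

theorem sl_card_classes [Fintype F] {k : ℕ} :
    Nat.card {c : ConjClasses (Matrix.SpecialLinearGroup (Fin (k + 1)) F) //
      ∃ g : Matrix.SpecialLinearGroup (Fin (k + 1)) F, ConjClasses.mk g = c ∧ (orderOf g).Coprime p} =
      Fintype.card F ^ k := by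
  classical
  have hS : Nat.card {a : F // a = (-1) ^ (k + 1)} = 1 := by
    rw [Nat.card_eq_fintype_card, Fintype.card_subtype_eq]
  refine Eq.trans ?_ ((card_polySet (F := F) (k := k) fun a => a = (-1) ^ (k + 1)).trans (by rw [hS, one_mul]))
  refine Nat.card_congr (Equiv.ofBijective
    (fun c => ⟨(c.2.choose : Matrix (Fin (k + 1)) (Fin (k + 1)) F).charpoly,
      ⟨Matrix.charpoly_monic _, by rw [Matrix.charpoly_natDegree_eq_dim, Fintype.card_fin]⟩,
      coeff_zero_sl _⟩) ⟨fun c d hcd => Subtype.ext ?_, ?_⟩)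
  · have h := congrArg Subtype.val hcd
    rw [← c.2.choose_spec.1, ← d.2.choose_spec.1, ConjClasses.mk_eq_mk_iff_isConj]
    exact sl_isConj p _ _ c.2.choose_spec.2 d.2.choose_spec.2 h
  · rintro ⟨P, ⟨hP, hd⟩, hP0⟩
    obtain ⟨A, hA, hAm⟩ := exists_matrix_charpoly (k + 1) (k + 1) P hP
      (by rw [hP0]; exact pow_ne_zero _ (neg_ne_zero.2 one_ne_zero)) hd le_rfl
    have hdet : A.det = 1 := by
      rw [Matrix.det_eq_sign_charpoly_coeff, hA, hP0, Fintype.card_fin, ← mul_pow]; simp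
    let g : Matrix.SpecialLinearGroup (Fin (k + 1)) F := ⟨A, hdet⟩
    have hg : (orderOf g).Coprime p :=
      (pow_sub_one_coprime (F := F) p (Nat.factorial_pos (k + 1))).coprime_dvd_left
        (orderOf_dvd_of_pow_eq_one (Subtype.ext (by rw [Matrix.SpecialLinearGroup.coe_pow]; exact hAm)))
    refine ⟨⟨ConjClasses.mk g, g, rfl, hg⟩, Subtype.ext ?_⟩
    have hex : ∃ g' : Matrix.SpecialLinearGroup (Fin (k + 1)) F,
        ConjClasses.mk g' = ConjClasses.mk g ∧ (orderOf g').Coprime p := ⟨g, rfl, hg⟩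
    show (hex.choose : Matrix (Fin (k + 1)) (Fin (k + 1)) F).charpoly = P
    obtain ⟨u, hu⟩ := isConj_iff.1 (ConjClasses.mk_eq_mk_iff_isConj.1 hex.choose_spec.1)
    have h2 := congrArg Matrix.SpecialLinearGroup.toGL hu
    rw [map_mul, map_mul, map_inv] at h2
    have h3 := congrArg (fun x : GL (Fin (k + 1)) F => (x : Matrix (Fin (k + 1)) (Fin (k + 1)) F).charpoly) h2
    simp only [Units.val_mul, Matrix.coe_units_inv] at h3
    rw [Matrix.charpoly_units_conj] at h3
    exact h3.trans hA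

end CfsgLib.SSClasses
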