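import Cfsg.Agent.Lib.KnownSimple.SemisimpleClasses.Modules

/-!
# Semisimple matrices: similarity, centralisers and existence
-/

set_option autoImplicit false

namespace CfsgLib.SSClasses

open Polynomial Module

universe u

variable {F : Type u} [Field F] {ι : Type*} [Fintype ι] [DecidableEq ι]

/-- The module of a matrix. -/
abbrev MatMod (A : Matrix ι ι F) : Type _ := AEval' (Matrix.toLin' A)

theorem det_equiv_conj {M N : Type*} [AddCommGroup M] [Module F M] [AddCommGroup N] [Module F N]
    (e : M ≃ₗ[F] N) (g : Module.End F M) : LinearMap.det (e.conj g) = LinearMap.det g := by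
  rw [LinearEquiv.conj_apply, LinearMap.comp_assoc, LinearMap.det_conj]

theorem xEnd_matMod (A : Matrix ι ι F) :
    xEnd F (MatMod A) = (AEval'.of (Matrix.toLin' A)).conj (Matrix.toLin' A) := by
  refine LinearMap.ext fun x => ?_
  obtain ⟨v, rfl⟩ := (AEval'.of (Matrix.toLin' A)).surjective x
  rw [LinearEquiv.conj_apply_apply, LinearEquiv.symm_apply_apply]
  exact AEval'.X_smul_of _ v

theorem charpoly_matMod (A : Matrix ι ι F) : (xEnd F (MatMod A)).charpoly = A.charpoly := by
  rw [xEnd_matMod, LinearEquiv.charpoly_conj, ← LinearMap.charpoly_toMatrix _ (Pi.basisFun F ι),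
    LinearMap.toMatrix_eq_toMatrix', LinearMap.toMatrix'_toLin']

theorem semisimple_matMod {A : Matrix ι ι F} {m : ℕ} (hm : (m : F) ≠ 0) (h : A ^ m = 1) :
    IsSemisimpleModule F[X] (MatMod A) := by
  have h1 : aeval (Matrix.toLin' A) (X ^ m - C (1 : F)) = 0 := by
    rw [map_sub, map_pow, aeval_X, aeval_C, map_one]
    have e : (Matrix.toLinAlgEquiv' A) ^ m = 1 := by rw [← map_pow, h, map_one]
    rw [sub_eq_zero]
    exact e
  exact Module.End.isSemisimple_of_squarefree_aeval_eq_zero
    (separable_X_pow_sub_C (1 : F) hm one_ne_zero).squarefree h1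

/-- An equivalence of the modules of two matrices gives a conjugating matrix. -/
theorem exists_conj_of_equiv {A B : Matrix ι ι F} (e : MatMod A ≃ₗ[F[X]] MatMod B) :
    ∃ P : GL ι F, (P : Matrix ι ι F) * A = B * (P : Matrix ι ι F) := by
  let T : (ι → F) ≃ₗ[F] (ι → F) := ((AEval'.of (Matrix.toLin' A)).trans (e.restrictScalars F)).trans
    (AEval'.of (Matrix.toLin' B)).symm
  have hT : T.toLinearMap.comp (Matrix.toLin' A) = (Matrix.toLin' B).comp T.toLinearMap := by
    refine LinearMap.ext fun v => ?_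
    show (AEval'.of (Matrix.toLin' B)).symm (e (AEval'.of (Matrix.toLin' A) (Matrix.toLin' A v))) =
      Matrix.toLin' B ((AEval'.of (Matrix.toLin' B)).symm (e (AEval'.of (Matrix.toLin' A) v)))
    rw [← AEval'.X_smul_of, map_smul, LinearEquiv.symm_apply_eq, ← AEval'.X_smul_of,
      LinearEquiv.apply_symm_apply]
  have h1 := congrArg LinearMap.toMatrix' hT
  simp only [LinearMap.toMatrix'_comp, LinearMap.toMatrix'_toLin'] at h1
  refine ⟨Units.mk (LinearMap.toMatrix' T.toLinearMap) (LinearMap.toMatrix' T.symm.toLinearMap) ?_ ?_, h1⟩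
  · rw [← LinearMap.toMatrix'_comp, LinearEquiv.comp_coe, LinearEquiv.symm_trans_self]
    exact LinearMap.toMatrix'_id
  · rw [← LinearMap.toMatrix'_comp, LinearEquiv.comp_coe, LinearEquiv.self_trans_symm]
    exact LinearMap.toMatrix'_id

/-- Semisimple matrices with equal characteristic polynomials are similar. -/
theorem exists_conj_of_charpoly {A B : Matrix ι ι F} {m : ℕ} (hm : (m : F) ≠ 0) (hA : A ^ m = 1)
    (hB : B ^ m = 1) (hc : A.charpoly = B.charpoly) :
    ∃ P : GL ι F, (P : Matrix ι ι F) * A = B * (P : Matrix ι ι F) := by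
  haveI := semisimple_matMod hm hA
  haveI := semisimple_matMod hm hB
  haveI : FiniteDimensional F (MatMod A) := (AEval'.of (Matrix.toLin' A)).finiteDimensional
  haveI : FiniteDimensional F (MatMod B) := (AEval'.of (Matrix.toLin' B)).finiteDimensional
  obtain ⟨e⟩ := nonempty_equiv_of_charpoly _ (MatMod A) (MatMod B) rfl
    (by rw [charpoly_matMod, charpoly_matMod, hc])
  exact exists_conj_of_equiv e

/-- Over a finite field the centraliser of a semisimple matrix has every determinant. -/
theorem exists_commute_det [Finite F] [Nonempty ι] {A : Matrix ι ι F} {m : ℕ} (hm : (m : F) ≠ 0)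
    (hA : A ^ m = 1) (c : Fˣ) :
    ∃ P : GL ι F, (P : Matrix ι ι F) * A = A * (P : Matrix ι ι F) ∧
      (P : Matrix ι ι F).det = (c : F) := by
  haveI := semisimple_matMod hm hA
  haveI : FiniteDimensional F (MatMod A) := (AEval'.of (Matrix.toLin' A)).finiteDimensional
  have hfr : Module.finrank F (MatMod A) = Fintype.card ι := by
    rw [← (AEval'.of (Matrix.toLin' A)).finrank_eq, Module.finrank_pi]
  have hnu : ¬ IsUnit (xEnd F (MatMod A)).charpoly := fun hu => by
    have := natDegree_eq_zero_of_isUnit hu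
    rw [LinearMap.charpoly_natDegree, hfr] at this
    exact Fintype.card_ne_zero this
  obtain ⟨f, hf, hfd⟩ := WfDvdMonoid.exists_irreducible_factor hnu (LinearMap.charpoly_monic _).ne_zero
  obtain ⟨S, ⟨eS⟩⟩ := exists_cyclic hf hfd
  obtain ⟨W, hW⟩ := exists_isCompl S
  haveI : Fact (Irreducible f) := ⟨hf⟩
  haveI : Module.Finite F (AdjoinRoot f) := (AdjoinRoot.powerBasis hf.ne_zero).finite
  haveI : Finite (AdjoinRoot f) := Module.finite_of_finite F
  obtain ⟨k, hk⟩ := FiniteField.norm_surjective F (AdjoinRoot f) (c : F)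
  have hk0 : k ≠ 0 := fun e => c.ne_zero (by rw [← hk, e, Algebra.norm_zero])
  -- multiplication by `k` on the residue field, transported to `S`
  obtain ⟨p, hp⟩ := AdjoinRoot.mk_surjective k
  obtain ⟨p', hp'⟩ := AdjoinRoot.mk_surjective k⁻¹
  have hpp : ∀ x : F[X] ⧸ Ideal.span {f}, p • (p' • x) = x ∧ p' • (p • x) = x := by
    intro x
    obtain ⟨y, rfl⟩ := Ideal.Quotient.mk_surjective x
    have e1 : AdjoinRoot.mk f (p * p') = 1 := by rw [map_mul, hp, hp', mul_inv_cancel₀ hk0]
    have e2 : ∀ a b : F[X], a • (Ideal.Quotient.mk (Ideal.span {f}) b) = Ideal.Quotient.mk _ (a * b) :=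
      fun a b => rfl
    have e3 : AdjoinRoot.mk f (p * p' * y) = AdjoinRoot.mk f y := by rw [map_mul, e1, one_mul]
    refine ⟨?_, ?_⟩
    · rw [e2, e2, ← mul_assoc]; exact e3
    · rw [e2, e2, ← mul_assoc, mul_comm p' p]; exact e3
  let q : (F[X] ⧸ Ideal.span {f}) ≃ₗ[F[X]] (F[X] ⧸ Ideal.span {f}) :=
    LinearEquiv.ofLinearMap (LinearMap.lsmul F[X] _ p) (LinearMap.lsmul F[X] _ p')
      (LinearMap.ext fun x => (hpp x).1) (LinearMap.ext fun x => (hpp x).2)
  let e₁ : (↥S × ↥W) ≃ₗ[F[X]] MatMod A := Submodule.prodEquivOfIsCompl S W hW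
  let qS : ↥S ≃ₗ[F[X]] ↥S := eS.symm.trans (q.trans eS)
  let Q : MatMod A ≃ₗ[F[X]] MatMod A := e₁.symm.trans ((qS.prodCongr (LinearEquiv.refl _ _)).trans e₁)
  let T : (ι → F) ≃ₗ[F] (ι → F) := ((AEval'.of (Matrix.toLin' A)).trans (Q.restrictScalars F)).trans
    (AEval'.of (Matrix.toLin' A)).symm
  have hT : T.toLinearMap.comp (Matrix.toLin' A) = (Matrix.toLin' A).comp T.toLinearMap := by
    refine LinearMap.ext fun v => ?_
    show (AEval'.of (Matrix.toLin' A)).symm (Q (AEval'.of (Matrix.toLin' A) (Matrix.toLin' A v))) =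
      Matrix.toLin' A ((AEval'.of (Matrix.toLin' A)).symm (Q (AEval'.of (Matrix.toLin' A) v)))
    rw [← AEval'.X_smul_of, map_smul, LinearEquiv.symm_apply_eq, ← AEval'.X_smul_of,
      LinearEquiv.apply_symm_apply]
  have hdet : LinearMap.det T.toLinearMap = (c : F) := by
    haveI : FiniteDimensional F S :=
      FiniteDimensional.of_injective ((S.subtype).restrictScalars F) S.injective_subtype
    haveI : FiniteDimensional F W :=
      FiniteDimensional.of_injective ((W.subtype).restrictScalars F) W.injective_subtype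
    have h1 : T.toLinearMap = ((AEval'.of (Matrix.toLin' A)).symm : MatMod A ≃ₗ[F] (ι → F)).conj
        (Q.restrictScalars F).toLinearMap := rfl
    have h2 : (Q.restrictScalars F).toLinearMap = (e₁.restrictScalars F).conj
        (((qS.restrictScalars F).toLinearMap).prodMap (LinearMap.id)) := rfl
    have h3 : (qS.restrictScalars F).toLinearMap = (eS.restrictScalars F).conj
        ((LinearMap.lsmul F[X] (F[X] ⧸ Ideal.span {f}) p).restrictScalars F) := rfl
    have h4 : ((LinearMap.lsmul F[X] (F[X] ⧸ Ideal.span {f}) p).restrictScalars F :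
        Module.End F (AdjoinRoot f)) = LinearMap.mulLeft F k := by
      refine LinearMap.ext fun x => ?_
      obtain ⟨y, rfl⟩ := AdjoinRoot.mk_surjective x
      show AdjoinRoot.mk f (p * y) = k * AdjoinRoot.mk f y
      rw [map_mul, hp]
    haveI : Module.Free F ↥S := Module.Free.of_divisionRing F ↥S
    haveI : Module.Free F ↥W := Module.Free.of_divisionRing F ↥W
    haveI : Module.Finite F (F[X] ⧸ Ideal.span {f}) := (AdjoinRoot.powerBasis hf.ne_zero).finite
    rw [h1, det_equiv_conj, h2]
    refine ((det_equiv_conj (M := ↥S × ↥W) (N := MatMod A) (e₁.restrictScalars F) _).trans ?_)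
    rw [LinearMap.det_prodMap, LinearMap.det_id, mul_one, h3]
    refine ((det_equiv_conj (M := F[X] ⧸ Ideal.span {f}) (N := ↥S) (eS.restrictScalars F) _).trans ?_)
    rw [← hk, Algebra.norm_apply]
    exact congrArg (fun g : Module.End F (AdjoinRoot f) => LinearMap.det g) h4
  have h1 := congrArg LinearMap.toMatrix' hT
  simp only [LinearMap.toMatrix'_comp, LinearMap.toMatrix'_toLin'] at h1
  refine ⟨Units.mk (LinearMap.toMatrix' T.toLinearMap) (LinearMap.toMatrix' T.symm.toLinearMap) ?_ ?_,
    h1, ?_⟩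
  · rw [← LinearMap.toMatrix'_comp, LinearEquiv.comp_coe, LinearEquiv.symm_trans_self]
    exact LinearMap.toMatrix'_id
  · rw [← LinearMap.toMatrix'_comp, LinearEquiv.comp_coe, LinearEquiv.self_trans_symm]
    exact LinearMap.toMatrix'_id
  · show (LinearMap.toMatrix' T.toLinearMap).det = _
    rw [LinearMap.det_toMatrix', hdet]

/-- Every monic polynomial with non-zero constant term is the characteristic polynomial of a matrix
of order dividing `q ^ N ! - 1`. -/
theorem exists_matrix_charpoly [Fintype F] (N : ℕ) : ∀ (d : ℕ) (P : F[X]), P.Monic → P.coeff 0 ≠ 0 →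
    P.natDegree = d → d ≤ N →
    ∃ A : Matrix (Fin d) (Fin d) F, A.charpoly = P ∧ A ^ (Fintype.card F ^ N.factorial - 1) = 1 := by
  intro d
  induction d using Nat.strong_induction_on with
  | _ d ih =>
  intro P hP hP0 hd hdN
  rcases Nat.eq_zero_or_pos d with h0 | hpos
  · subst h0
    refine ⟨0, ?_, Subsingleton.elim _ _⟩
    rw [hP.natDegree_eq_zero.1 hd, Matrix.charpoly, Matrix.det_isEmpty]
  have hnu : ¬ IsUnit P := fun hu => by
    have := natDegree_eq_zero_of_isUnit hu
    omega
  obtain ⟨f, hfm, hf, Q, rfl⟩ : ∃ f : F[X], f.Monic ∧ Irreducible f ∧ f ∣ P :=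
    exists_monic_irreducible_factor P hnu
  have hQm : Q.Monic := hfm.of_mul_monic_left hP
  rw [mul_coeff_zero] at hP0
  have hdeg : f.natDegree + Q.natDegree = d := by rw [← hd, hfm.natDegree_mul hQm]
  have hfpos := hf.natDegree_pos
  obtain ⟨B, hB, hBm⟩ := ih Q.natDegree (by omega) Q hQm (right_ne_zero_of_mul hP0) rfl (by omega)
  haveI : Fact (Irreducible f) := ⟨hf⟩
  set pb := AdjoinRoot.powerBasis hf.ne_zero
  haveI : Module.Finite F (AdjoinRoot f) := pb.finite
  haveI : Finite (AdjoinRoot f) := Module.finite_of_finite F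
  haveI := Fintype.ofFinite (AdjoinRoot f)
  set C₀ := Algebra.leftMulMatrix pb.basis pb.gen
  have hC : C₀.charpoly = f := by
    rw [charpoly_leftMulMatrix]
    exact (minpoly.eq_of_irreducible_of_monic hf (by simp [pb]) hfm).symm
  have hCm : C₀ ^ (Fintype.card F ^ N.factorial - 1) = 1 := by
    rw [← map_pow]
    have hgen : pb.gen ≠ 0 := by
      intro e
      have h2 := congrArg (Polynomial.aeval pb.gen) (X_mul_divX_add f).symm
      rw [show aeval pb.gen f = 0 by simp [pb], e, map_add, map_mul, aeval_X, zero_mul, zero_add,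
        aeval_C] at h2
      exact left_ne_zero_of_mul hP0 ((map_eq_zero (algebraMap F (AdjoinRoot f))).1 h2.symm)
    have hcard : Fintype.card (AdjoinRoot f) - 1 ∣ Fintype.card F ^ N.factorial - 1 := by
      rw [Module.card_eq_pow_finrank (K := F), pb.finrank, AdjoinRoot.powerBasis_dim]
      exact Nat.pow_sub_one_dvd_pow_sub_one _ (Nat.dvd_factorial hfpos (by omega))
    obtain ⟨t, ht⟩ := hcard
    rw [ht, pow_mul, FiniteField.pow_card_sub_one_eq_one _ hgen, one_pow, map_one]
  let σ : Fin pb.dim ⊕ Fin Q.natDegree ≃ Fin d :=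
    finSumFinEquiv.trans (finCongr (by rw [AdjoinRoot.powerBasis_dim, hdeg]))
  refine ⟨Matrix.reindex σ σ (Matrix.fromBlocks C₀ 0 0 B), ?_, ?_⟩
  · rw [Matrix.charpoly_reindex, Matrix.charpoly_fromBlocks_zero₁₂, hC, hB]
  · have e : Matrix.reindex σ σ (Matrix.fromBlocks C₀ 0 0 B) =
        Matrix.reindexAlgEquiv F F σ (Matrix.fromBlocks C₀ 0 0 B) := rfl
    rw [e, ← map_pow, Matrix.fromBlocks_diagonal_pow, hCm, hBm, Matrix.fromBlocks_one, map_one]

end CfsgLib.SSClasses
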