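import Mathlib

/-!
# Semisimple endomorphisms with the same characteristic polynomial are similar
-/

set_option autoImplicit false

namespace CfsgLib.SSClasses

open Polynomial Module

universe u v w

variable {F : Type u} [Field F]

/-- Multiplication by the variable, as a linear map over the field. -/
noncomputable def xEnd (F : Type u) [Field F] (V : Type v) [AddCommGroup V] [Module F V] [Module F[X] V]
    [IsScalarTower F F[X] V] : Module.End F V :=
  (LinearMap.lsmul F[X] V (X : F[X])).restrictScalars F

section

variable {V : Type v} {W : Type w} [AddCommGroup V] [Module F V] [Module F[X] V]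
  [IsScalarTower F F[X] V] [AddCommGroup W] [Module F W] [Module F[X] W] [IsScalarTower F F[X] W]

theorem aeval_xEnd (p : F[X]) (v : V) : aeval (xEnd F V) p v = p • v := by
  induction p using Polynomial.induction_on generalizing v with
  | C a => rw [aeval_C, Module.algebraMap_end_apply, ← algebraMap_smul F[X] a v]; rfl
  | add p q hp hq => rw [map_add, LinearMap.add_apply, hp, hq, add_smul]
  | monomial n a h =>
    rw [pow_succ, ← mul_assoc, map_mul (aeval (xEnd F V)) (C a * X ^ n) X, Module.End.mul_apply,
      h, mul_smul (C a * X ^ n) X v, aeval_X]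
    rfl

theorem conj_xEnd (e : V ≃ₗ[F[X]] W) : (e.restrictScalars F).conj (xEnd F V) = xEnd F W := by
  refine LinearMap.ext fun w => ?_
  show e ((X : F[X]) • e.symm w) = (X : F[X]) • w
  rw [map_smul, LinearEquiv.apply_symm_apply]

theorem xEnd_prod : xEnd F (V × W) = (xEnd F V).prodMap (xEnd F W) := rfl

/-- A root of the characteristic polynomial is a root of the minimal polynomial. -/
theorem dvd_minpoly_of_dvd_charpoly {M : Type v} [AddCommGroup M] [Module F M] [FiniteDimensional F M]
    (a : Module.End F M) {f : F[X]} (hf : Irreducible f) (h : f ∣ a.charpoly) : f ∣ minpoly F a := by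
  classical
  let b := Module.finBasis F M
  set A := LinearMap.toMatrix b b a with hA
  let L := AlgebraicClosure F
  obtain ⟨x, hx⟩ := IsAlgClosed.exists_aeval_eq_zero (k := L) f hf.degree_pos.ne'
  have hc : (A.map (algebraMap F L)).charpoly.eval x = 0 := by
    rw [Matrix.charpoly_map, eval_map, hA, LinearMap.charpoly_toMatrix, ← aeval_def]
    obtain ⟨g, hg⟩ := h
    rw [hg, map_mul, hx, zero_mul]
  rw [Matrix.eval_charpoly, ← Matrix.exists_mulVec_eq_zero_iff] at hc
  obtain ⟨v, hv0, hv⟩ := hc
  set B := A.map (algebraMap F L)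
  have hev : ∀ k : ℕ, (B ^ k).mulVec v = x ^ k • v := by
    intro k
    induction k with
    | zero => simp
    | succ k ih =>
      have hBv : B.mulVec v = x • v := by
        rw [Matrix.sub_mulVec, sub_eq_zero, Matrix.scalar_apply] at hv
        rw [← hv]
        funext i
        simp [Matrix.mulVec_diagonal]
      rw [pow_succ, ← Matrix.mulVec_mulVec, hBv, Matrix.mulVec_smul, ih, smul_smul, ← pow_succ']
  have hmin : aeval B (minpoly F a) = 0 := by
    have e : aeval A (minpoly F a) = 0 := by
      have := congrArg (LinearMap.toMatrixAlgEquiv b) (minpoly.aeval F a)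
      rw [map_zero, ← aeval_algHom_apply] at this
      exact this
    have := congrArg (Algebra.ofId F L).mapMatrix e
    rw [map_zero, ← aeval_algHom_apply] at this
    exact this
  have h2 : aeval x (minpoly F a) • v = 0 := by
    have hB : (aeval B (minpoly F a)).mulVec v = aeval x (minpoly F a) • v := by
      rw [aeval_eq_sum_range, aeval_eq_sum_range, Matrix.sum_mulVec, Finset.sum_smul]
      refine Finset.sum_congr rfl fun k _ => ?_
      rw [Matrix.smul_mulVec, hev, smul_assoc]
    rw [← hB, hmin, Matrix.zero_mulVec]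
  have h3 : aeval x (minpoly F a) = 0 := (smul_eq_zero.1 h2).resolve_right hv0
  exact (Associated.dvd (associated_mul_unit_left _ _ (isUnit_C.2 (IsUnit.inv (isUnit_iff_ne_zero.2
    (leadingCoeff_ne_zero.2 hf.ne_zero))))).symm).trans
    ((minpoly.eq_of_irreducible hf hx).symm ▸ minpoly.dvd F x h3)

/-- An irreducible factor of the characteristic polynomial gives a copy of its residue field. -/
theorem exists_cyclic [FiniteDimensional F V] {f : F[X]} (hf : Irreducible f)
    (h : f ∣ (xEnd F V).charpoly) :
    ∃ S : Submodule F[X] V, Nonempty ((F[X] ⧸ Ideal.span {f}) ≃ₗ[F[X]] S) := by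
  obtain ⟨g, hg⟩ := dvd_minpoly_of_dvd_charpoly _ hf h
  have hgne : g ≠ 0 := fun e => minpoly.ne_zero (IsIntegral.of_finite F (xEnd F V)) (by rw [hg, e, mul_zero])
  obtain ⟨w, hw⟩ : ∃ w : V, g • w ≠ 0 := by
    by_contra hall
    push Not at hall
    have hd : minpoly F (xEnd F V) ∣ g :=
      minpoly.dvd _ _ (LinearMap.ext fun w => by rw [aeval_xEnd, hall]; rfl)
    have h1 := natDegree_le_of_dvd hd hgne
    rw [hg, natDegree_mul hf.ne_zero hgne] at h1
    have := hf.natDegree_pos
    omega
  set v := g • w with hv
  have hfv : f • v = 0 := by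
    rw [hv, smul_smul, ← hg, ← aeval_xEnd, minpoly.aeval]
    rfl
  have hker : LinearMap.ker (LinearMap.toSpanSingleton F[X] V v) = Ideal.span {f} := by
    refine le_antisymm (fun p hp => ?_) ?_
    · rw [LinearMap.mem_ker, LinearMap.toSpanSingleton_apply] at hp
      rw [Ideal.mem_span_singleton]
      by_contra hnd
      obtain ⟨a, b, hab⟩ := (Irreducible.coprime_iff_not_dvd hf).2 hnd
      refine hw ?_
      calc v = (a * f + b * p) • v := by rw [hab, one_smul]
        _ = 0 := by rw [add_smul, mul_smul, mul_smul, hfv, hp, smul_zero, smul_zero, add_zero]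
    · rw [Ideal.span_le, Set.singleton_subset_iff]
      simpa using hfv
  exact ⟨_, ⟨(Submodule.quotEquivOfEq _ _ hker.symm).trans
    (LinearMap.toSpanSingleton F[X] V v).quotKerEquivRange⟩⟩

end

/-- Semisimple modules with the same characteristic polynomial are isomorphic. -/
theorem nonempty_equiv_of_charpoly : ∀ (d : ℕ) (V : Type v) (W : Type w)
    [AddCommGroup V] [Module F V] [Module F[X] V] [IsScalarTower F F[X] V] [FiniteDimensional F V]
    [AddCommGroup W] [Module F W] [Module F[X] W] [IsScalarTower F F[X] W] [FiniteDimensional F W]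
    [IsSemisimpleModule F[X] V] [IsSemisimpleModule F[X] W],
    Module.finrank F V = d → (xEnd F V).charpoly = (xEnd F W).charpoly → Nonempty (V ≃ₗ[F[X]] W) := by
  intro d
  induction d using Nat.strong_induction_on with
  | _ d ih =>
  intro V W _ _ _ _ _ _ _ _ _ _ _ _ hd hc
  have hdW : Module.finrank F W = d := by
    rw [← hd, ← LinearMap.charpoly_natDegree (xEnd F W), ← hc, LinearMap.charpoly_natDegree]
  rcases Nat.eq_zero_or_pos d with h0 | hpos
  · subst h0
    haveI := Module.finrank_zero_iff.1 hd
    haveI := Module.finrank_zero_iff.1 hdW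
    exact ⟨LinearEquiv.ofSubsingleton V W⟩
  have hnu : ¬ IsUnit (xEnd F V).charpoly := fun hu => by
    have := natDegree_eq_zero_of_isUnit hu
    rw [LinearMap.charpoly_natDegree, hd] at this
    omega
  obtain ⟨f, hf, hfd⟩ := WfDvdMonoid.exists_irreducible_factor hnu (LinearMap.charpoly_monic _).ne_zero
  obtain ⟨S, ⟨eS⟩⟩ := exists_cyclic hf hfd
  obtain ⟨S', ⟨eS'⟩⟩ := exists_cyclic hf (hc ▸ hfd)
  obtain ⟨C, hC⟩ := exists_isCompl S
  obtain ⟨C', hC'⟩ := exists_isCompl S'
  let e₁ : (↥S × ↥C) ≃ₗ[F[X]] V := Submodule.prodEquivOfIsCompl S C hC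
  let e₂ : (↥S' × ↥C') ≃ₗ[F[X]] W := Submodule.prodEquivOfIsCompl S' C' hC'
  haveI : FiniteDimensional F S := FiniteDimensional.of_injective ((S.subtype).restrictScalars F) S.injective_subtype
  haveI : FiniteDimensional F C := FiniteDimensional.of_injective ((C.subtype).restrictScalars F) C.injective_subtype
  haveI : FiniteDimensional F S' := FiniteDimensional.of_injective ((S'.subtype).restrictScalars F) S'.injective_subtype
  haveI : FiniteDimensional F C' := FiniteDimensional.of_injective ((C'.subtype).restrictScalars F) C'.injective_subtype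
  let eSS : ↥S ≃ₗ[F[X]] ↥S' := eS.symm.trans eS'
  have hmul : (xEnd F S).charpoly * (xEnd F C).charpoly = (xEnd F S').charpoly * (xEnd F C').charpoly := by
    rw [← LinearMap.charpoly_prodMap, ← LinearMap.charpoly_prodMap, ← xEnd_prod, ← xEnd_prod,
      ← LinearEquiv.charpoly_conj (e₁.restrictScalars F), ← LinearEquiv.charpoly_conj (e₂.restrictScalars F),
      conj_xEnd, conj_xEnd, hc]
  rw [← conj_xEnd eSS, LinearEquiv.charpoly_conj] at hmul
  have hcC := mul_left_cancel₀ (LinearMap.charpoly_monic (xEnd F S)).ne_zero hmul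
  have hSpos : 0 < Module.finrank F S := by
    refine Module.finrank_pos_iff.2 ?_
    haveI : Nontrivial (F[X] ⧸ Ideal.span {f}) := Ideal.Quotient.nontrivial_iff.2 (by
      rw [Ne, Ideal.span_singleton_eq_top]
      exact hf.not_isUnit)
    exact eS.symm.toEquiv.nontrivial
  have hlt : Module.finrank F C < d := by
    rw [← hd, ← (e₁.restrictScalars F).finrank_eq, Module.finrank_prod]
    omega
  obtain ⟨eC⟩ := ih _ hlt ↥C ↥C' rfl hcC
  exact ⟨e₁.symm.trans ((eSS.prodCongr eC).trans e₂)⟩

end CfsgLib.SSClasses
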